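import Cfsg.Agent.Lib.KnownA.JankoOne.Basic
import Mathlib.GroupTheory.NoncommCoprod
import Mathlib.GroupTheory.Sylow

/-!
The order of the first Janko group, the Sylow 2-subgroup, the centralizer of an involution.
-/

set_option autoImplicit false
set_option maxRecDepth 100000

namespace CfsgLib.KnownA.JankoOne

open CfsgLib.Recog.JankoOne

/-- The bitwise sum. -/
def xr (i j : Fin 8) : Fin 8 := ⟨(i.val ^^^ j.val) % 8, Nat.mod_lt _ (by norm_num)⟩

/-- The indices of the Sylow 2-subgroup. -/
def sIdx (i : Fin 8) : Fin 2 × Fin 60 :=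
  (⟨i.val % 2, Nat.mod_lt _ (by norm_num)⟩,
    ⟨vList.getD (i.val / 2) 0 % 60, Nat.mod_lt _ (by norm_num)⟩)

/-- The elements of the Sylow 2-subgroup. -/
def sEl (i : Fin 8) : J := cEl (sIdx i)

theorem check_s : ∀ i j : Fin 8, cMul (sIdx i) (sIdx j) = sIdx (xr i j) ∧ xr i i = 0 ∧
    (sIdx i = sIdx j → i = j) := by decide +kernel

theorem check_s_zero : sIdx 0 = (0, 0) := by decide +kernel

theorem sEl_zero : sEl 0 = 1 := by rw [sEl, check_s_zero, cEl_one]

theorem sEl_mul (i j : Fin 8) : sEl i * sEl j = sEl (xr i j) := by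
  rw [sEl, sEl, sEl, ← cEl_mul, (check_s i j).1]

theorem sEl_sq (i : Fin 8) : sEl i * sEl i = 1 := by rw [sEl_mul, (check_s i i).2.1, sEl_zero]

theorem sEl_injective : Function.Injective sEl := fun i j h =>
  (check_s i j).2.2 (cEl_injective h)

theorem check_s_one : sIdx 1 = (1, 0) := by decide +kernel

theorem sEl_one : sEl 1 = T := by rw [sEl, check_s_one, cEl]; simp [eEl_zero]

/-- The Sylow 2-subgroup. -/
def Ssub : Subgroup J where
  carrier := Set.range sEl
  one_mem' := ⟨0, sEl_zero⟩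
  mul_mem' := by rintro _ _ ⟨i, rfl⟩ ⟨j, rfl⟩; exact ⟨xr i j, (sEl_mul i j).symm⟩
  inv_mem' := by
    rintro _ ⟨i, rfl⟩
    exact ⟨i, (inv_eq_of_mul_eq_one_right (sEl_sq i)).symm⟩

theorem card_Ssub : Nat.card Ssub = 8 := by
  show Nat.card (Set.range sEl) = 8
  rw [Nat.card_range_of_injective sEl_injective, Nat.card_eq_fintype_card, Fintype.card_fin]

theorem exists_orderOf {n : ℕ} (hn : n ∈ ({1, 2, 3, 5, 6, 7, 10, 11, 15, 19} : Set ℕ)) :
    ∃ g : J, orderOf g = n := by
  rw [← jankoOne_range] at hn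
  exact hn

theorem exists_split (g : J) :
    ∃ p : Fin 660 × Fin 266, mat g = (kEl p.1).toMat * (rEl p.2).toMat := by
  obtain ⟨k, j, hk, hj, he⟩ := janko_mem_cases g.2
  exact ⟨(⟨k, hk⟩, ⟨j, hj⟩), he⟩

/-- A choice of the parameters of an element. -/
noncomputable def split (g : J) : Fin 660 × Fin 266 := (exists_split g).choose

theorem mat_split (g : J) : mat g = (kEl (split g).1).toMat * (rEl (split g).2).toMat :=
  (exists_split g).choose_spec

theorem split_injective : Function.Injective split := fun g h e =>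
  mat_inj (by rw [mat_split, mat_split, e])

theorem card_J : Nat.card J = 175560 := by
  have hle : Nat.card J ≤ 175560 := by
    have h := Nat.card_le_card_of_injective split split_injective
    simpa [Nat.card_eq_fintype_card] using h
  have hd : ∀ n ∈ ({1, 2, 3, 5, 6, 7, 10, 11, 15, 19} : Set ℕ), n ∣ Nat.card J := fun n hn => by
    obtain ⟨g, hg⟩ := exists_orderOf hn
    exact hg ▸ orderOf_dvd_natCard g
  have h8 : 8 ∣ Nat.card J := card_Ssub ▸ Ssub.card_subgroup_dvd_card
  have h := Nat.Coprime.mul_dvd_of_dvd_of_dvd (by norm_num) (Nat.Coprime.mul_dvd_of_dvd_of_dvd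
    (by norm_num) (Nat.Coprime.mul_dvd_of_dvd_of_dvd (by norm_num)
      (Nat.Coprime.mul_dvd_of_dvd_of_dvd (by norm_num) (Nat.Coprime.mul_dvd_of_dvd_of_dvd
        (by norm_num) h8 (hd 3 (by simp))) (hd 5 (by simp))) (hd 7 (by simp))) (hd 11 (by simp)))
    (hd 19 (by simp))
  exact le_antisymm hle (Nat.le_of_dvd Nat.card_pos h)

theorem split_bijective : Function.Bijective split :=
  (Nat.bijective_iff_injective_and_card _).2
    ⟨split_injective, by rw [card_J, Nat.card_eq_fintype_card]; simp⟩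

theorem split_unique {g : J} {p : Fin 660 × Fin 266}
    (h : mat g = (kEl p.1).toMat * (rEl p.2).toMat) : split g = p := by
  obtain ⟨g', rfl⟩ := split_bijective.2 p
  rw [← mat_split] at h
  rw [mat_inj h]

/-- The Sylow 2-subgroup. -/
noncomputable def S2 : Sylow 2 J :=
  haveI : Fact (Nat.Prime 2) := ⟨Nat.prime_two⟩
  (IsPGroup.of_card (n := 3) (by rw [card_Ssub]; rfl) : IsPGroup 2 Ssub).toSylow (by
    have h := Ssub.card_mul_index
    rw [card_Ssub, card_J] at h
    omega)

theorem coe_S2 : (S2 : Subgroup J) = Ssub := IsPGroup.toSylow_coe _ _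

theorem check_tT : ((List.range 266).all fun j =>
    decide (tTList.getD j 0 % 1000 < 660) && decide (tTList.getD j 0 / 1000 < 266) &&
    ((rEl j).mul mT).beq ((kEl (tTList.getD j 0 % 1000)).mul (rEl (tTList.getD j 0 / 1000)))) = true ∧
    mT.beq (kEl 1) = true := by decide +kernel

/-- The parameters of the elements commuting with the involution. -/
def cList : List (ℕ × ℕ) :=
  (List.range 266).flatMap fun j =>
    if tTList.getD j 0 / 1000 = j then
      ((List.range 660).filter fun k =>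
        Nat.beq (kFold k (kWord (tTList.getD j 0 % 1000))) (kFold 1 (kWord k))).map fun k => (k, j)
    else []

theorem check_cList : cList.length ≤ 120 := by decide +kernel

theorem mem_cList {g : J} (hg : g * T = T * g) :
    (((split g).1 : ℕ), ((split g).2 : ℕ)) ∈ cList := by
  obtain ⟨⟨⟨k, hk⟩, ⟨j, hj⟩⟩, hp⟩ : ∃ p, split g = p := ⟨_, rfl⟩
  have hm := mat_split g
  rw [hp] at hm ⊢
  dsimp only at hm ⊢
  have hc := List.all_eq_true.mp check_tT.1 j (List.mem_range.mpr hj)
  simp only [Bool.and_eq_true, decide_eq_true_eq] at hc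
  obtain ⟨⟨hm1, hj'⟩, hr⟩ := hc
  set m := tTList.getD j 0 % 1000 with hmdef
  set j' := tTList.getD j 0 / 1000 with hjdef
  obtain ⟨hA, eA'⟩ := uEl_mul (j := m) hk
  obtain ⟨hB, eB'⟩ := uEl_mul (j := k) (show 1 < 660 by norm_num)
  set A := kFold k (kWord m) with hAdef
  set B := kFold 1 (kWord k) with hBdef
  have h1 : mat (g * T) = (kEl A).toMat * (rEl j').toMat := by
    rw [mat_mul, hm, mat_T, mul_assoc, ← M7.toMat_mul (rEl j), toMat_inj_of_beq hr, M7.toMat_mul,
      ← mul_assoc, ← uEl_val hk, ← uEl_val hm1, ← Units.val_mul, ← eA', uEl_val hA]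
  have h2 : mat (T * g) = (kEl B).toMat * (rEl j).toMat := by
    rw [mat_mul, hm, mat_T, toMat_inj_of_beq check_tT.2, ← mul_assoc, ← uEl_val (show 1 < 660 by norm_num),
      ← uEl_val hk, ← Units.val_mul, ← eB', uEl_val hB]
  have e1 := split_unique (p := (⟨A, hA⟩, ⟨j', hj'⟩)) h1
  have e2 := split_unique (p := (⟨B, hB⟩, ⟨j, hj⟩)) h2
  rw [hg, e2, Prod.mk.injEq, Fin.mk.injEq, Fin.mk.injEq] at e1
  rw [cList, List.mem_flatMap]
  refine ⟨j, List.mem_range.mpr hj, ?_⟩
  rw [if_pos (by rw [← hjdef]; exact e1.2.symm)]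
  refine List.mem_map.2 ⟨k, List.mem_filter.2 ⟨List.mem_range.mpr hk, ?_⟩, rfl⟩
  rw [Nat.beq_eq]
  exact e1.1.symm

theorem mem_C {g : J} : g ∈ Subgroup.centralizer ({T} : Set J) ↔ g * T = T * g :=
  Subgroup.mem_centralizer_singleton_iff

theorem cEl_mem_C (c : Fin 2 × Fin 60) : cEl c ∈ Subgroup.centralizer ({T} : Set J) :=
  mem_C.2 (((Commute.refl T).pow_left _).mul_left (commute_eEl _)).eq

theorem card_C_le : Nat.card (Subgroup.centralizer ({T} : Set J)) ≤ 120 := by
  classical
  let f : ↥(Subgroup.centralizer ({T} : Set J)) → {p : ℕ × ℕ // p ∈ cList.toFinset} := fun g =>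
    ⟨_, List.mem_toFinset.2 (mem_cList (mem_C.1 g.2))⟩
  have hf : Function.Injective f := fun g h e => by
    have e' := congrArg Subtype.val e
    simp only [f, Prod.mk.injEq] at e'
    exact Subtype.ext (split_injective (Prod.ext (Fin.ext e'.1) (Fin.ext e'.2)))
  refine (Nat.card_le_card_of_injective f hf).trans ?_
  rw [Nat.card_eq_fintype_card, Fintype.card_coe]
  exact (List.toFinset_card_le _).trans check_cList

theorem exists_cEl {g : J} (hg : g * T = T * g) : ∃ c, cEl c = g := by
  let f : Fin 2 × Fin 60 → ↥(Subgroup.centralizer ({T} : Set J)) := fun c => ⟨cEl c, cEl_mem_C c⟩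
  have hf : Function.Injective f := fun c d e => cEl_injective (congrArg Subtype.val e)
  have hb : Function.Bijective f := (Nat.bijective_iff_injective_and_card f).2
    ⟨hf, le_antisymm (Nat.card_le_card_of_injective f hf) (card_C_le.trans_eq (by simp))⟩
  obtain ⟨c, hc⟩ := hb.2 ⟨g, mem_C.2 hg⟩
  exact ⟨c, congrArg Subtype.val hc⟩

theorem card_C : Nat.card (Subgroup.centralizer ({T} : Set J)) = 120 := by
  refine le_antisymm card_C_le ?_
  have h := Nat.card_le_card_of_injective
    (fun c => (⟨cEl c, cEl_mem_C c⟩ : ↥(Subgroup.centralizer ({T} : Set J))))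
    fun c d e => cEl_injective (congrArg Subtype.val e)
  simpa using h

end CfsgLib.KnownA.JankoOne
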