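import Cfsg.Agent.Lib.KnownA.JankoOne.Cent
import Mathlib.GroupTheory.SpecificGroups.Alternating
import Mathlib.Data.ZMod.Basic

/-!
The centralizer of the involution in the first Janko group.
-/

set_option autoImplicit false
set_option maxRecDepth 100000

namespace CfsgLib.KnownA.JankoOne

open Equiv

/-- The image of the first generator of `A₅`. -/
def pA : Perm (Fin 5) := swap 1 2 * swap 3 4

/-- The image of the second generator of `A₅`. -/
def pB : Perm (Fin 5) := swap 0 1 * swap 1 3

/-- The permutation of an element of `A₅`. -/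
def pEl (i : ℕ) : Perm (Fin 5) := ((eWord i).map fun l => if l then pB else pA).prod

theorem check_p : ∀ i : Fin 60, pEl i * pA = pEl (eA.getD i 0) ∧ pEl i * pB = pEl (eB.getD i 0) ∧
    Perm.sign (pEl i) = 1 ∧ (pEl i = 1 → i = 0) := by decide +kernel

theorem pEl_fold (w : List Bool) : ∀ {i : ℕ}, i < 60 →
    pEl (eFold i w) = pEl i * (w.map fun l => if l then pB else pA).prod := by
  induction w with
  | nil => intro i _; simp [eFold]
  | cons l w ih =>
    intro i hi
    have h := check_p ⟨i, hi⟩
    show pEl (eFold (eStep i l) w) = _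
    rw [ih (eStep_spec hi l).1, List.map_cons, List.prod_cons, ← mul_assoc]
    congr 1
    cases l
    · exact h.1.symm
    · exact h.2.1.symm

theorem pEl_mul {i : ℕ} (hi : i < 60) (j : ℕ) : pEl (eMul i j) = pEl i * pEl j :=
  pEl_fold (eWord j) hi

/-- The map to `Z₂ × A₅`. -/
def toTarget (c : Fin 2 × Fin 60) : Multiplicative (ZMod 2) × ↥(alternatingGroup (Fin 5)) :=
  (Multiplicative.ofAdd (c.1 : ZMod 2),
    ⟨pEl c.2, Perm.mem_alternatingGroup.2 (check_p c.2).2.2.1⟩)

theorem toTarget_mul (c d : Fin 2 × Fin 60) :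
    toTarget (cMul c d) = toTarget c * toTarget d := by
  refine Prod.ext rfl (Subtype.ext ?_)
  show pEl (eMul c.2 d.2 % 60) = pEl c.2 * pEl d.2
  rw [Nat.mod_eq_of_lt (eEl_mul c.2.2 d.2).1, pEl_mul c.2.2]

theorem toTarget_eq_one {c : Fin 2 × Fin 60} (h : toTarget c = 1) : c = (0, 0) := by
  have h1 : pEl c.2 = 1 := congrArg Subtype.val (congrArg Prod.snd h)
  have h2 : Multiplicative.ofAdd (c.1 : ZMod 2) = 1 := congrArg Prod.fst h
  exact Prod.ext (Multiplicative.ofAdd.injective h2) ((check_p c.2).2.2.2 h1)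

theorem orderOf_T : orderOf T = 2 := by
  refine orderOf_eq_prime (by rw [pow_two, T_sq]) fun h => ?_
  have h' : cEl (1, 0) = cEl (0, 0) := by rw [cEl_one, cEl, h]; simp [eEl_zero]
  exact absurd (congrArg Prod.fst (cEl_injective h')) (by decide)

theorem nonempty_centralizer_equiv :
    Nonempty (↥(Subgroup.centralizer ({T} : Set J)) ≃*
      Multiplicative (ZMod 2) × ↥(alternatingGroup (Fin 5))) := by
  classical
  haveI : Fact (Nat.Prime 2) := ⟨Nat.prime_two⟩
  let e : Fin 2 × Fin 60 ≃ ↥(Subgroup.centralizer ({T} : Set J)) :=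
    Equiv.ofBijective (fun c => ⟨cEl c, cEl_mem_C c⟩)
      ⟨fun c d h => cEl_injective (congrArg Subtype.val h), fun g => by
        obtain ⟨c, hc⟩ := exists_cEl (mem_C.1 g.2)
        exact ⟨c, Subtype.ext hc⟩⟩
  let f : ↥(Subgroup.centralizer ({T} : Set J)) →*
      Multiplicative (ZMod 2) × ↥(alternatingGroup (Fin 5)) :=
    MonoidHom.mk' (fun g => toTarget (e.symm g)) fun g h => by
      show toTarget (e.symm (g * h)) = _
      rw [← toTarget_mul]
      congr 1
      refine e.symm_apply_eq.2 (Subtype.ext ?_)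
      show (g : J) * h = cEl _
      rw [cEl_mul]
      exact (congrArg₂ (fun a b : ↥(Subgroup.centralizer ({T} : Set J)) => (a : J) * b)
        (e.apply_symm_apply g) (e.apply_symm_apply h)).symm
  have hf : Function.Injective f := (injective_iff_map_eq_one f).2 fun g h => by
    have hg := e.apply_symm_apply g
    rw [show e.symm g = (0, 0) from toTarget_eq_one h] at hg
    exact Subtype.ext ((congrArg Subtype.val hg).symm.trans cEl_one)
  refine ⟨MulEquiv.ofBijective f ((Nat.bijective_iff_injective_and_card f).2 ⟨hf, ?_⟩)⟩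
  rw [Nat.card_prod, Nat.card_congr Multiplicative.toAdd, Nat.card_zmod, card_C,
    nat_card_alternatingGroup, Nat.card_fin]
  rfl

end CfsgLib.KnownA.JankoOne
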