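import Cfsg.Agent.Lib.KnownA.JankoOne.Gens
import Cfsg.Prelude.Def_KGroupFacts

/-!
Every automorphism of the first Janko group is inner.
-/

set_option autoImplicit false
set_option maxRecDepth 100000

namespace CfsgLib.KnownA.JankoOne

open CfsgLib.Recog.JankoOne

/-- A power in the tables. -/
def cPow (c : Fin 2 × Fin 60) : ℕ → Fin 2 × Fin 60
  | 0 => (0, 0)
  | k + 1 => cMul (cPow c k) c

theorem cEl_cPow (c : Fin 2 × Fin 60) (k : ℕ) : cEl (cPow c k) = cEl c ^ k := by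
  induction k with
  | zero => rw [pow_zero]; exact cEl_one
  | succ k ih => rw [cPow, cEl_mul, ih, pow_succ]

/-- The action of `H ^ k * N3 ^ a * s` on the indices. -/
def act (k : Fin 7) (a : Fin 3) (i : Fin 8) : Fin 8 := pF^[k.val] (nF^[a.val] i)

theorem N3_pow_conj (k : ℕ) (i : Fin 8) : N3 ^ k * sEl i * (N3 ^ k)⁻¹ = sEl (nF^[k] i) := by
  induction k with
  | zero => simp
  | succ k ih =>
    rw [Function.iterate_succ_apply', ← N3_conj, ← ih, pow_succ', mul_inv_rev]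
    simp [mul_assoc]

theorem check_xr : ∀ i j : Fin 8, xr (xr j i) j = i := by decide +kernel

theorem act_conj (k : Fin 7) (a : Fin 3) (j i : Fin 8) :
    (H ^ (k : ℕ) * N3 ^ (a : ℕ) * sEl j) * sEl i * (H ^ (k : ℕ) * N3 ^ (a : ℕ) * sEl j)⁻¹ =
      sEl (act k a i) := by
  rw [act, ← H_pow_conj, ← N3_pow_conj]
  have h : sEl j * sEl i * (sEl j)⁻¹ = sEl i := by
    rw [inv_eq_of_mul_eq_one_right (sEl_sq j), sEl_mul, sEl_mul, check_xr]
  conv_rhs => rw [← h]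
  group

theorem check_stab : ∀ e : Fin 2 × Fin 60,
    (∀ i : Fin 8, ∃ j : Fin 8, cMul e (sIdx i) = cMul (sIdx j) e) →
    ∃ (a : Fin 3) (j : Fin 8), e = cMul (cPow nC a) (sIdx j) := by decide +kernel

/-- The elements normalizing the Sylow 2-subgroup. -/
theorem exists_normal_form {g : J} (hg : ∀ i, ∃ j, g * sEl i * g⁻¹ = sEl j) :
    ∃ (k : Fin 7) (a : Fin 3) (j : Fin 8), g = H ^ (k : ℕ) * N3 ^ (a : ℕ) * sEl j := by
  obtain ⟨i, hi⟩ := hg 1
  have hi0 : i ≠ 0 := fun h => by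
    rw [h, sEl_zero, conj_eq_one_iff] at hi
    exact absurd (sEl_injective (hi.trans sEl_zero.symm)) (by decide)
  obtain ⟨k, hk⟩ := (check_orbit i).resolve_left hi0
  set c := (H ^ (k : ℕ))⁻¹ * g with hc
  have hsurj : ∀ j : Fin 8, ∃ m : Fin 8, pF^[k.val] m = j := by
    have : ∀ (k : Fin 7) (j : Fin 8), ∃ m : Fin 8, pF^[k.val] m = j := by decide +kernel
    exact this k
  have hcn : ∀ l, ∃ m, c * sEl l * c⁻¹ = sEl m ∧ pF^[k.val] m = (hg l).choose := fun l => by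
    obtain ⟨m, hm⟩ := hsurj (hg l).choose
    refine ⟨m, ?_, hm⟩
    have h := (hg l).choose_spec
    rw [← hm, ← H_pow_conj] at h
    rw [hc]
    calc (H ^ (k : ℕ))⁻¹ * g * sEl l * ((H ^ (k : ℕ))⁻¹ * g)⁻¹
        = (H ^ (k : ℕ))⁻¹ * (g * sEl l * g⁻¹) * H ^ (k : ℕ) := by group
      _ = sEl m := by rw [h]; group
  have hcT : c * T = T * c := by
    rw [← hk, ← H_pow_conj, sEl_one] at hi
    rw [← mul_inv_eq_iff_eq_mul, hc]
    calc (H ^ (k : ℕ))⁻¹ * g * T * ((H ^ (k : ℕ))⁻¹ * g)⁻¹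
        = (H ^ (k : ℕ))⁻¹ * (g * T * g⁻¹) * H ^ (k : ℕ) := by group
      _ = T := by rw [hi]; group
  obtain ⟨e, he⟩ := exists_cEl hcT
  obtain ⟨a, j, hj⟩ := check_stab e fun l => by
    obtain ⟨m, hm, -⟩ := hcn l
    refine ⟨m, cEl_injective ?_⟩
    rw [cEl_mul, cEl_mul, he, ← sEl, ← sEl, ← hm, inv_mul_cancel_right]
  refine ⟨k, a, j, ?_⟩
  rw [mul_assoc, N3, ← cEl_cPow, sEl, ← cEl_mul, ← hj, he, hc, mul_inv_cancel_left]

theorem check_form : ∀ (k : Fin 7) (a : Fin 3),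
    ((∀ i, act k a i = pF i) → k = 1 ∧ a = 0) ∧ ((∀ i, act k a i = nF i) → k = 0 ∧ a = 1) := by
  decide +kernel

theorem check_cube : ∀ j : Fin 8, cPow (cMul nC (sIdx j)) 3 = (0, 0) →
    ∃ v : Fin 8, cMul (cMul (sIdx v) (cMul nC (sIdx j))) (sIdx v) = nC := by decide +kernel

theorem check_nC : cPow nC 3 = (0, 0) ∧ (∀ j : Fin 8, pF (pF^[6] j) = j) ∧
    (∀ j : Fin 8, nF j = xr (pF^[6] j) j → j = 0 ∨ j = 7) := by decide +kernel

theorem check_seven : ((mT.mul mH).mul mT).beq (mH.mul (cM (sIdx 7))) = true := by decide +kernel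

theorem THT : T * H * T = H * sEl 7 := mat_inj (by
  rw [mat_mul, mat_mul, mat_mul, mat_T, mat_H, sEl, mat_cEl, ← M7.toMat_mul, ← M7.toMat_mul,
    toMat_inj_of_beq check_seven, M7.toMat_mul])

theorem check_four : sIdx 2 = (0, 1) ∧
    (∀ p ∈ a4List, ∃ (a : Fin 3) (j : Fin 8),
      ((0, ⟨p.1 % 60, Nat.mod_lt _ (by norm_num)⟩) : Fin 2 × Fin 60) = cMul (cPow nC a) (sIdx j)) ∧
    (∀ p ∈ a4List, cPow (cMul (0, 2) (0, ⟨p.1 % 60, Nat.mod_lt _ (by norm_num)⟩)) p.2 = (0, 0)) ∧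
    (∀ e : Fin 2 × Fin 60, (∀ p ∈ a4List,
      cPow (cMul e (0, ⟨p.1 % 60, Nat.mod_lt _ (by norm_num)⟩)) p.2 = (0, 0)) → e = (0, 2)) := by
  decide +kernel

/-- An automorphism fixing the Sylow 2-subgroup, `N3` and `H` is trivial. -/
theorem eq_one_of_fix (φ : MulAut J) (hS : ∀ i, φ (sEl i) = sEl i) (hN : φ N3 = N3)
    (hH : φ H = H) : φ = 1 := by
  obtain ⟨h2, h4, hb, huniq⟩ := check_four
  have hT : φ T = T := by rw [← sEl_one]; exact hS 1
  have ha : φ (eEl 1) = eEl 1 := by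
    have h : sEl 2 = eEl 1 := by rw [sEl, h2]; simp [cEl]
    rw [← h]; exact hS 2
  have hfix : ∀ (a : Fin 3) (j : Fin 8), φ (cEl (cMul (cPow nC a) (sIdx j))) =
      cEl (cMul (cPow nC a) (sIdx j)) := fun a j => by
    rw [cEl_mul, cEl_cPow, ← N3, ← sEl, map_mul, map_pow, hN, hS]
  obtain ⟨e, he⟩ : ∃ e, cEl e = φ (eEl 2) := exists_cEl (by
    conv_lhs => rw [← hT]
    conv_rhs => rw [← hT]
    rw [← map_mul, ← map_mul, (commute_eEl 2).eq])
  have he2 : e = (0, 2) := huniq e fun p hp => cEl_injective (by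
    obtain ⟨a, j, haj⟩ := h4 p hp
    have hb' := congrArg cEl (hb p hp)
    have hu := hfix a j
    rw [← haj] at hu
    rw [cEl_cPow, cEl_mul, cEl_one] at hb' ⊢
    rw [he, ← hu, ← map_mul, ← map_pow, show eEl 2 = cEl (0, 2) by simp [cEl], hb', map_one])
  have hb : φ (eEl 2) = eEl 2 := by rw [← he, he2]; simp [cEl]
  refine MulEquiv.ext fun x => ?_
  show φ.toMonoidHom x = MonoidHom.id J x
  rw [hom_ext (f := φ.toMonoidHom) (g := MonoidHom.id J) hT ha hb hH]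

theorem conj_mem_inn (g : J) : MulAut.conj g ∈ Cfsg.Inn J := ⟨g, rfl⟩

theorem normalizes_of_fix (φ : MulAut J) (hS : ∀ i, φ (sEl i) = sEl i) {g : J} {f : Fin 8 → Fin 8}
    (hg : ∀ i, g * sEl i * g⁻¹ = sEl (f i)) (i : Fin 8) :
    φ g * sEl i * (φ g)⁻¹ = sEl (f i) := by
  conv_lhs => rw [← hS i, ← map_inv, ← map_mul, ← map_mul, hg, hS]

theorem mem_inn_of_fix_S_N (φ : MulAut J) (hS : ∀ i, φ (sEl i) = sEl i) (hN : φ N3 = N3) :
    φ ∈ Cfsg.Inn J := by
  have hn := normalizes_of_fix φ hS (g := H) H_conj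
  obtain ⟨k, a, j, hj⟩ := exists_normal_form fun i => ⟨_, hn i⟩
  obtain ⟨rfl, rfl⟩ := (check_form k a).1 fun i => sEl_injective (by rw [← hn i, hj, act_conj])
  have hH : φ H = H * sEl j := by simpa using hj
  obtain ⟨-, hP, hj07⟩ := check_nC
  have hrel := congrArg φ N3_H
  rw [map_mul, map_mul, map_mul, hN, hH] at hrel
  have hcases := hj07 j (sEl_injective (by
    have e1 : N3 * (H * sEl j) = H * H * sEl (nF j) * N3 := by
      rw [← mul_assoc, N3_H, mul_assoc, N3_sEl, ← mul_assoc]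
    have e2 : H * sEl j * (H * sEl j) * N3 = H * H * sEl (xr (pF^[6] j) j) * N3 := by
      have e : sEl j * H = H * sEl (pF^[6] j) := by rw [H_sEl, hP]
      rw [← sEl_mul, mul_assoc H (sEl j), ← mul_assoc (sEl j) H, e]
      simp only [mul_assoc]
    rw [e1, e2] at hrel
    exact mul_left_cancel (mul_right_cancel hrel)))
  rcases hcases with rfl | rfl
  · rw [eq_one_of_fix φ hS hN (by rw [hH, sEl_zero, mul_one])]
    exact one_mem _
  · have hTi : T⁻¹ = T := inv_eq_of_mul_eq_one_right T_sq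
    refine (Subgroup.mul_mem_cancel_left _ (conj_mem_inn T)).1 ?_
    rw [eq_one_of_fix (MulAut.conj T * φ) ?_ ?_ ?_]
    · exact one_mem _
    · intro i
      rw [MulAut.mul_apply, MulAut.conj_apply, hS, ← sEl_one,
        inv_eq_of_mul_eq_one_right (sEl_sq 1), sEl_mul, sEl_mul, check_xr]
    · rw [MulAut.mul_apply, MulAut.conj_apply, hN, N3,
        show cEl nC = eEl (nIdx % 60) by simp [cEl, nC], ← (commute_eEl _).eq, mul_inv_cancel_right]
    · rw [MulAut.mul_apply, MulAut.conj_apply, hH, hTi, ← THT]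
      calc T * (T * H * T) * T = (T * T) * H * (T * T) := by simp only [mul_assoc]
        _ = H := by rw [T_sq, one_mul, mul_one]

theorem mem_inn_of_fix_S (φ : MulAut J) (hS : ∀ i, φ (sEl i) = sEl i) : φ ∈ Cfsg.Inn J := by
  have hn := normalizes_of_fix φ hS (g := N3) N3_conj
  obtain ⟨k, a, j, hj⟩ := exists_normal_form fun i => ⟨_, hn i⟩
  obtain ⟨rfl, rfl⟩ := (check_form k a).2 fun i => sEl_injective (by rw [← hn i, hj, act_conj])
  have hN : φ N3 = cEl (cMul nC (sIdx j)) := by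
    rw [hj, cEl_mul]; simp [N3, sEl]
  obtain ⟨v, hv⟩ := check_cube j (cEl_injective (by
    rw [cEl_cPow, ← hN, ← map_pow, N3, ← cEl_cPow, check_nC.1, cEl_one, map_one]))
  refine (Subgroup.mul_mem_cancel_left _ (conj_mem_inn (sEl v))).1
    (mem_inn_of_fix_S_N _ (fun i => ?_) ?_)
  · rw [MulAut.mul_apply, MulAut.conj_apply, hS, inv_eq_of_mul_eq_one_right (sEl_sq v), sEl_mul,
      sEl_mul, check_xr]
  · rw [MulAut.mul_apply, MulAut.conj_apply, hN, inv_eq_of_mul_eq_one_right (sEl_sq v), sEl,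
      ← cEl_mul, ← cEl_mul, hv, N3]

/-- The additive map of the indices sending 1, 2, 4 to 1, `u`, `v`. -/
def lin (u v : Fin 8) (i : Fin 8) : Fin 8 :=
  xr (xr (if i.val % 2 = 1 then 1 else 0) (if i.val / 2 % 2 = 1 then u else 0))
    (if i.val / 4 = 1 then v else 0)

theorem check_bits : ∀ i : Fin 8, lin 2 4 i = i := by decide +kernel

theorem check_sigma : ∀ (u v : Fin 8) (k : Fin 7) (a : Fin 3),
    (∀ i, lin u v i = 0 → i = 0) → (∀ i, lin u v (pF i) = act k a (lin u v i)) →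
    ∃ b : Fin 3, ∀ i, nF^[b.val] (lin u v i) = i := by decide +kernel

theorem mem_inn_of_normalize (φ : MulAut J) (hS : ∀ i, ∃ j, φ (sEl i) = sEl j) (hT : φ T = T) :
    φ ∈ Cfsg.Inn J := by
  obtain ⟨u, hu⟩ := hS 2
  obtain ⟨v, hv⟩ := hS 4
  have h1 : φ (sEl 1) = sEl 1 := by rw [sEl_one]; exact hT
  have h0 : φ (sEl 0) = sEl 0 := by rw [sEl_zero, map_one]
  have hlin : ∀ i, φ (sEl i) = sEl (lin u v i) := fun i => by
    conv_lhs => rw [← check_bits i]
    unfold lin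
    rw [← sEl_mul, ← sEl_mul, ← sEl_mul, ← sEl_mul, map_mul, map_mul]
    split_ifs <;> simp only [h0, h1, hu, hv]
  have hinj : ∀ i, lin u v i = 0 → i = 0 := fun i h => sEl_injective (φ.injective (by
    rw [hlin, h, h0]))
  have hbij : Function.Bijective (lin u v) := Finite.injective_iff_bijective.1 fun i i' h =>
    sEl_injective (φ.injective (by rw [hlin, hlin, h]))
  obtain ⟨k, a, j, hj⟩ := exists_normal_form (g := φ H) fun i => by
    obtain ⟨i', rfl⟩ := hbij.2 i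
    exact ⟨lin u v (pF i'), by rw [← hlin, ← map_inv, ← map_mul, ← map_mul, H_conj, hlin]⟩
  obtain ⟨b, hb⟩ := check_sigma u v k a hinj fun i => sEl_injective (by
    rw [← hlin, ← H_conj, map_mul, map_mul, map_inv, hlin, hj, act_conj])
  refine (Subgroup.mul_mem_cancel_left _ (conj_mem_inn (N3 ^ (b : ℕ)))).1
    (mem_inn_of_fix_S _ fun i => ?_)
  rw [MulAut.mul_apply, MulAut.conj_apply, hlin, N3_pow_conj, hb]

theorem mem_inn (φ : MulAut J) : φ ∈ Cfsg.Inn J := by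
  classical
  haveI : Fact (Nat.Prime 2) := ⟨Nat.prime_two⟩
  obtain ⟨P, hP⟩ : ∃ P : Sylow 2 J, ∀ i, φ (sEl i) ∈ (P : Subgroup J) :=
    IsPGroup.exists_le_sylow ((S2.isPGroup').map φ.toMonoidHom) |>.imp fun P hP i =>
      hP (Subgroup.mem_map_of_mem _ (by rw [coe_S2]; exact ⟨i, rfl⟩))
  obtain ⟨g, hg⟩ := MulAction.exists_smul_eq J P S2
  have hψ : ∀ i, ∃ j, (MulAut.conj g * φ) (sEl i) = sEl j := fun i => by
    have h : MulAut.conj g (φ (sEl i)) ∈ ((g • P : Sylow 2 J) : Subgroup J) := ⟨_, hP i, rfl⟩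
    rw [hg, coe_S2] at h
    obtain ⟨j, hj⟩ := h
    exact ⟨j, hj.symm⟩
  refine (Subgroup.mul_mem_cancel_left _ (conj_mem_inn g)).1 ?_
  obtain ⟨i, hi⟩ := hψ 1
  have hi0 : i ≠ 0 := fun h => by
    rw [h, sEl_zero] at hi
    exact absurd (sEl_injective (((MulAut.conj g * φ).map_eq_one_iff.1 hi).trans sEl_zero.symm))
      (by decide)
  obtain ⟨k, hk⟩ := (check_orbit i).resolve_left hi0
  have hinv : ∀ (k : Fin 7) (i : Fin 8), pF^[(7 - k.val) % 7] (pF^[k.val] i) = i := by decide +kernel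
  refine (Subgroup.mul_mem_cancel_left _ (conj_mem_inn (H ^ ((7 - (k : ℕ)) % 7)))).1
    (mem_inn_of_normalize _ (fun l => ?_) ?_)
  · obtain ⟨j, hj⟩ := hψ l
    exact ⟨_, by rw [MulAut.mul_apply, hj, MulAut.conj_apply, H_pow_conj]⟩
  · rw [MulAut.mul_apply, ← sEl_one, hi, MulAut.conj_apply, H_pow_conj, ← hk, hinv]

theorem card_out : Nat.card (Cfsg.Out J) = 1 := by
  show (Cfsg.Inn J).index = 1
  rw [Subgroup.index_eq_one]
  exact (Subgroup.eq_top_iff' _).2 mem_inn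

end CfsgLib.KnownA.JankoOne
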