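import Cfsg.Agent.Lib.KnownA.JankoOne.Gens
import Cfsg.Agent.Lib.KnownA.Stem
import Cfsg.Agent.Lib.InvChar.JankoReeCover

/-!
The Schur multiplier of the first Janko group is trivial.
-/

set_option autoImplicit false

namespace CfsgLib.KnownA.JankoOne

open scoped commutatorElement

theorem pow_div_prime_eq_one {Γ : Type*} [Group Γ] [Finite Γ] {σ : Γ →* J}
    (hσ : Cfsg.IsStemExtension σ) {p : ℕ} [Fact p.Prime] (hp : p ∣ 175560) (z : Γ)
    (hz : z ∈ σ.ker) : z ^ (175560 / p) = 1 := by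
  obtain ⟨g, hg⟩ := exists_prime_orderOf_dvd_card' (G := J) p (by rw [card_J]; exact hp)
  have hidx : (Subgroup.zpowers g).index = 175560 / p := by
    have h := (Subgroup.zpowers g).card_mul_index
    rw [Nat.card_zpowers, hg, card_J] at h
    rw [← h, Nat.mul_div_cancel_left _ (Nat.Prime.pos Fact.out)]
  rw [← hidx]
  refine stem_pow_index_eq_one hσ _ (fun x _ hx => ?_) z hz
  obtain ⟨u, hu⟩ := hσ.1 g
  have hbot : ⁅(Subgroup.zpowers g).comap σ, (Subgroup.zpowers g).comap σ⁆ = ⊥ := by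
    rw [Subgroup.commutator_eq_bot_iff_le_centralizer]
    intro a ha b hb
    obtain ⟨i, hi⟩ := Subgroup.mem_zpowers_iff.1 ha
    obtain ⟨j, hj⟩ := Subgroup.mem_zpowers_iff.1 hb
    have hca : a * (u ^ i)⁻¹ ∈ Subgroup.center Γ := hσ.2.1 (by
      rw [MonoidHom.mem_ker, map_mul, map_inv, map_zpow, hu, hi, mul_inv_cancel])
    have hcb : b * (u ^ j)⁻¹ ∈ Subgroup.center Γ := hσ.2.1 (by
      rw [MonoidHom.mem_ker, map_mul, map_inv, map_zpow, hu, hj, mul_inv_cancel])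
    have e1 : Commute (b * (u ^ j)⁻¹) a := (Subgroup.mem_center_iff.1 hcb a).symm
    have e2 : Commute (u ^ j) a := by
      rw [← inv_mul_cancel_right a (u ^ i)]
      exact Commute.mul_right (Subgroup.mem_center_iff.1 hca _) (Commute.zpow_zpow_self u j i)
    have := e1.mul_left e2
    rwa [inv_mul_cancel_right] at this
  rwa [hbot, Subgroup.mem_bot] at hx

theorem pow_eight_eq_one {Γ : Type*} [Group Γ] [Finite Γ] {σ : Γ →* J}
    (hσ : Cfsg.IsStemExtension σ) (z : Γ) (hz : z ∈ σ.ker) : z ^ 8 = 1 := by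
  have h : ∀ p : ℕ, p.Prime → p ∣ 175560 → orderOf z ∣ 175560 / p := fun p hp hd => by
    haveI := Fact.mk hp
    exact orderOf_dvd_of_pow_eq_one (pow_div_prime_eq_one hσ hd z hz)
  refine orderOf_dvd_iff_pow_eq_one.1 ?_
  have h8 := Nat.dvd_gcd (Nat.dvd_gcd (Nat.dvd_gcd (h 3 (by norm_num) (by norm_num))
    (h 5 (by norm_num) (by norm_num))) (Nat.dvd_gcd (h 7 (by norm_num) (by norm_num))
    (h 11 (by norm_num) (by norm_num)))) (h 19 (by norm_num) (by norm_num))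
  exact h8.trans (by norm_num)

theorem stem_ker_eq_bot {Γ : Type*} [Group Γ] [Finite Γ] (σ : Γ →* J)
    (hσ : Cfsg.IsStemExtension σ) : σ.ker = ⊥ := by
  classical
  haveI : Fact (Nat.Prime 2) := ⟨Nat.prime_two⟩
  by_contra hne
  have hpg : IsPGroup 2 ↥σ.ker := fun z =>
    ⟨3, Subtype.ext (by simpa using pow_eight_eq_one hσ z.1 z.2)⟩
  obtain ⟨m, hm⟩ := IsPGroup.iff_card.1 hpg
  have hm0 : m ≠ 0 := fun h => hne (Subgroup.eq_bot_of_card_eq _ (by rw [hm, h, pow_zero]))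
  obtain ⟨K, hK⟩ := Sylow.exists_subgroup_card_pow_prime (G := ↥σ.ker) 2 (n := m - 1)
    (hm ▸ pow_dvd_pow 2 (Nat.sub_le m 1))
  have hKi : K.index = 2 := by
    have h := K.card_mul_index
    rw [hK, hm] at h
    have h2 : (2 : ℕ) ^ m = 2 ^ (m - 1) * 2 := by
      rw [← pow_succ]; congr 1; omega
    rw [h2] at h
    exact Nat.eq_of_mul_eq_mul_left (pow_pos two_pos _) h
  set Z₀ : Subgroup Γ := K.map σ.ker.subtype with hZ₀
  have hZc : Z₀ ≤ Subgroup.center Γ := (Subgroup.map_subtype_le K).trans hσ.2.1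
  haveI : Z₀.Normal := ⟨fun x hx g => by
    rw [Subgroup.mem_center_iff.1 (hZc hx) g, mul_inv_cancel_right]; exact hx⟩
  let π : Γ ⧸ Z₀ →* J := QuotientGroup.lift Z₀ σ (Subgroup.map_subtype_le K)
  have hperf : commutator Γ = ⊤ := by
    have hmap : (commutator Γ).map σ = ⊤ := by
      rw [commutator_def, Subgroup.map_commutator, Subgroup.map_top_of_surjective _ hσ.1,
        ← commutator_def, commutator_eq_top]
    refine (Subgroup.eq_top_iff' _).2 fun x => ?_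
    obtain ⟨y, hy, hyx⟩ := hmap.symm ▸ Subgroup.mem_top (σ x)
    have h : x * y⁻¹ ∈ commutator Γ := hσ.2.2 (by
      rw [MonoidHom.mem_ker, map_mul, map_inv, hyx, mul_inv_cancel])
    simpa using mul_mem h hy
  obtain ⟨z₀, hz₀⟩ : ∃ z₀ : ↥σ.ker, z₀ ∉ K := by
    by_contra hc
    push Not at hc
    rw [show K = ⊤ from (Subgroup.eq_top_iff' K).2 hc, Subgroup.index_top] at hKi
    omega
  have hmemZ₀ : ∀ w : ↥σ.ker, (w : Γ) ∈ Z₀ ↔ w ∈ K := fun w =>
    Subgroup.mem_map_iff_mem σ.ker.subtype_injective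
  have hcom : commutator (Γ ⧸ Z₀) = ⊤ := by
    rw [commutator_def, ← Subgroup.map_top_of_surjective (QuotientGroup.mk' Z₀)
      (QuotientGroup.mk'_surjective Z₀), ← Subgroup.map_commutator, ← commutator_def, hperf]
  have hmem : ∀ {a : J}, a ∈ (S2 : Subgroup J) → ∃ i, sEl i = a := fun {a} ha => by
    rw [coe_S2] at ha; exact ha
  have hS : ∀ i, sEl i ∈ (S2 : Subgroup J) := fun i => by rw [coe_S2]; exact ⟨i, rfl⟩
  have hconj : ∀ {a : J}, a ∈ (S2 : Subgroup J) → a ≠ 1 → IsConj T a := fun {a} ha ha1 => by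
    obtain ⟨i, rfl⟩ := hmem ha
    exact isConj_sEl fun h => ha1 (h ▸ sEl_zero)
  have hne' : ∀ {i : Fin 8}, i ≠ 0 → sEl i ≠ 1 := fun h e =>
    h (sEl_injective (e.trans sEl_zero.symm))
  refine CfsgLib.InvChar.JR.cover_contra S2
    (fun a ha => by obtain ⟨i, rfl⟩ := hmem ha; exact sEl_sq i)
    (fun a ha ha1 b hb hb1 => (hconj ha ha1).symm.trans (hconj hb hb1))
    (sEl 1) (sEl 2) (sEl 4) (hS 1) (hS 2) (hS 4) (hne' (by decide)) (hne' (by decide))
    (hne' (by decide)) (fun h => absurd (sEl_injective h) (by decide))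
    (fun h => absurd (sEl_injective h) (by decide)) (fun h => absurd (sEl_injective h) (by decide))
    (fun h => absurd (sEl_injective (h.trans (sEl_mul 2 4))) (by decide))
    hcom π ?_ (QuotientGroup.mk (z₀ : Γ)) ?_ ?_ ?_ ?_ ?_
  · intro g
    obtain ⟨l, hl⟩ := hσ.1 g
    exact ⟨QuotientGroup.mk l, hl⟩
  · intro h
    exact hz₀ ((hmemZ₀ z₀).1 ((QuotientGroup.eq_one_iff _).1 h))
  · intro l
    obtain ⟨l, rfl⟩ := QuotientGroup.mk_surjective l
    rw [← QuotientGroup.mk_mul, ← QuotientGroup.mk_mul, Subgroup.mem_center_iff.1 (hσ.2.1 z₀.2) l]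
  · rw [← QuotientGroup.mk_mul, QuotientGroup.eq_one_iff]
    exact (hmemZ₀ (z₀ * z₀)).2 ((Subgroup.mul_mem_iff_of_index_two hKi).2 Iff.rfl)
  · exact z₀.2
  · intro l hl
    obtain ⟨l, rfl⟩ := QuotientGroup.mk_surjective l
    have hlZ : l ∈ σ.ker := hl
    by_cases hlK : (⟨l, hlZ⟩ : ↥σ.ker) ∈ K
    · exact Or.inl ((QuotientGroup.eq_one_iff _).2 ((hmemZ₀ ⟨l, hlZ⟩).2 hlK))
    · refine Or.inr (QuotientGroup.eq.2 ((hmemZ₀ (⟨l, hlZ⟩⁻¹ * z₀)).2 ?_))
      refine (Subgroup.mul_mem_iff_of_index_two hKi).2 ?_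
      simp [hlK, hz₀]

theorem hasCyclicSchurMultiplier : Cfsg.HasCyclicSchurMultiplier J 1 :=
  CfsgLib.KnownA.hasCyclicSchurMultiplier_one fun _ _ _ σ hσ => stem_ker_eq_bot σ hσ

end CfsgLib.KnownA.JankoOne
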