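import Cfsg.Agent.Lib.Recog.JankoOneOrders
import Cfsg.Agent.Lib.KnownA.JankoOne.Data
import Mathlib.GroupTheory.SpecificGroups.Alternating

/-!
The first Janko group: distinguished elements, the subgroup `A₅` by tables, the order.
-/

set_option autoImplicit false
set_option maxRecDepth 100000

namespace CfsgLib.KnownA.JankoOne

open CfsgLib.Recog.JankoOne

/-- The group. -/
abbrev J : Type := ↥Cfsg.Spor.J1

/-- The matrix of an element. -/
def mat (g : J) : Matrix (Fin 7) (Fin 7) (ZMod 11) := g.1.val

theorem mat_mul (g h : J) : mat (g * h) = mat g * mat h := rfl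

theorem mat_one : mat 1 = 1 := rfl

theorem mat_inj {g h : J} (e : mat g = mat h) : g = h := Subtype.ext (Units.ext e)

theorem mat_pow (g : J) (n : ℕ) : mat (g ^ n) = mat g ^ n := by
  simp [mat, Units.val_pow_eq_pow_val]

/-- A generator. -/
def gL (l : ℕ) : J :=
  if l = 1 then ⟨Cfsg.Spor.jankoX, Subgroup.subset_closure (by simp)⟩
  else ⟨Cfsg.Spor.jankoY, Subgroup.subset_closure (by simp)⟩

/-- The element of a word. -/
def wEl (w : List ℕ) : J := (w.map gL).prod

theorem mat_wEl (w : List ℕ) : mat (wEl w) = (wordEval w).toMat := by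
  induction w with
  | nil => exact oneM_toMat.symm
  | cons l w ih =>
    rw [wEl, List.map_cons, List.prod_cons, mat_mul, ← wEl, ih, wordEval, M7.toMat_mul]
    congr 1
    unfold gL
    split_ifs
    · exact codeX_eq.symm
    · exact codeY_eq.symm

/-- The involution. -/
def T : J := wEl wT

/-- The first generator of `A₅`. -/
def EA : J := wEl wA

/-- The second generator of `A₅`. -/
def EB : J := wEl wB

/-- The element of order 7. -/
def H : J := wEl wH

/-- An element of order 19. -/
def U : J := wEl wU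

/-- The code of the involution. -/
def mT : M7 := wordEval wT

/-- The code of the first generator of `A₅`. -/
def mA : M7 := wordEval wA

/-- The code of the second generator of `A₅`. -/
def mB : M7 := wordEval wB

/-- The code of the element of order 7. -/
def mH : M7 := wordEval wH

theorem mat_T : mat T = mT.toMat := mat_wEl _
theorem mat_EA : mat EA = mA.toMat := mat_wEl _
theorem mat_EB : mat EB = mB.toMat := mat_wEl _
theorem mat_H : mat H = mH.toMat := mat_wEl _

/-- The code of an element of `A₅`. -/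
def eM (i : ℕ) : M7 := M7.decode (eCodes.getD i 0)

/-- One step. -/
def eStep (i : ℕ) (l : Bool) : ℕ := if l then eB.getD i 0 else eA.getD i 0

/-- Following a word. -/
def eFold (i : ℕ) (w : List Bool) : ℕ := w.foldl eStep i

/-- The word of an element. -/
def eWord (i : ℕ) : List Bool := eWords.getD i []

/-- The product in the tables. -/
def eMul (i j : ℕ) : ℕ := eFold i (eWord j)

/-- The element of `A₅` inside the group. -/
def eEl (i : ℕ) : J := ((eWord i).map fun l => if l then EB else EA).prod

theorem check_e : ((List.range 60).all fun i =>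
    decide (eA.getD i 0 < 60) && decide (eB.getD i 0 < 60) &&
    ((eM i).mul mA).beq (eM (eA.getD i 0)) && ((eM i).mul mB).beq (eM (eB.getD i 0)) &&
    decide (eFold 0 (eWord i) = i)) = true := by decide +kernel

theorem check_e_one : (eM 0).beq oneM = true := by decide +kernel

theorem eStep_spec {i : ℕ} (hi : i < 60) (l : Bool) :
    eStep i l < 60 ∧ (eM i).toMat * mat (if l then EB else EA) = (eM (eStep i l)).toMat := by
  have h := List.all_eq_true.mp check_e i (List.mem_range.mpr hi)
  simp only [Bool.and_eq_true, decide_eq_true_eq] at h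
  cases l
  · exact ⟨h.1.1.1.1, by
      rw [if_neg (by decide), mat_EA, ← M7.toMat_mul, toMat_inj_of_beq h.1.1.2]; rfl⟩
  · exact ⟨h.1.1.1.2, by
      rw [if_pos rfl, mat_EB, ← M7.toMat_mul, toMat_inj_of_beq h.1.2]; rfl⟩

theorem eFold_spec (w : List Bool) : ∀ {i : ℕ}, i < 60 →
    eFold i w < 60 ∧
      (eM i).toMat * mat ((w.map fun l => if l then EB else EA).prod) = (eM (eFold i w)).toMat := by
  induction w with
  | nil => intro i hi; exact ⟨hi, by simp [eFold, mat_one]⟩
  | cons l w ih =>
    intro i hi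
    obtain ⟨h1, h2⟩ := eStep_spec hi l
    obtain ⟨h3, h4⟩ := ih h1
    refine ⟨h3, ?_⟩
    rw [List.map_cons, List.prod_cons, mat_mul, ← mul_assoc, h2]
    exact h4

theorem mat_eEl {i : ℕ} (hi : i < 60) : mat (eEl i) = (eM i).toMat := by
  have h := List.all_eq_true.mp check_e i (List.mem_range.mpr hi)
  simp only [Bool.and_eq_true, decide_eq_true_eq] at h
  have h' := (eFold_spec (eWord i) (i := 0) (by norm_num)).2
  rw [h.2, toMat_inj_of_beq check_e_one, oneM_toMat, one_mul] at h'
  exact h'

theorem eEl_mul {i : ℕ} (hi : i < 60) (j : ℕ) :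
    eMul i j < 60 ∧ eEl (eMul i j) = eEl i * eEl j := by
  obtain ⟨h1, h2⟩ := eFold_spec (eWord j) hi
  refine ⟨h1, mat_inj ?_⟩
  show mat (eEl (eFold i (eWord j))) = _
  rw [mat_eEl h1, ← h2, mat_mul, mat_eEl hi]
  rfl

theorem eEl_zero : eEl 0 = 1 := rfl

theorem check_e_inj : ((List.range 60).all fun i =>
    decide (i = 0) || decide ((eM i).toMat ≠ 1)) = true := by decide +kernel

theorem check_t_not : ((List.range 60).all fun i => decide ((eM i).toMat ≠ mT.toMat)) = true := by
  decide +kernel

theorem eq_zero_of_eEl {i : ℕ} (hi : i < 60) (h : eEl i = 1) : i = 0 := by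
  have hc := List.all_eq_true.mp check_e_inj i (List.mem_range.mpr hi)
  simp only [Bool.or_eq_true, decide_eq_true_eq] at hc
  refine hc.resolve_right fun hn => hn ?_
  rw [← mat_eEl hi, h, mat_one]

theorem eEl_ne_T {i : ℕ} (hi : i < 60) : eEl i ≠ T := fun h => by
  have hc := List.all_eq_true.mp check_t_not i (List.mem_range.mpr hi)
  simp only [decide_eq_true_eq] at hc
  exact hc (by rw [← mat_eEl hi, h, mat_T])

theorem check_base' : ((mT.mul mT).beq oneM && (mA.mul mT).beq (mT.mul mA) &&
    (mB.mul mT).beq (mT.mul mB)) = true := by decide +kernel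

theorem T_sq : T * T = 1 := mat_inj (by
  have h := check_base'
  simp only [Bool.and_eq_true] at h
  rw [mat_mul, mat_T, ← M7.toMat_mul, toMat_inj_of_beq h.1.1, oneM_toMat, mat_one])

theorem commute_EA : Commute EA T := mat_inj (by
  have h := check_base'
  simp only [Bool.and_eq_true] at h
  rw [mat_mul, mat_mul, mat_T, mat_EA, ← M7.toMat_mul, toMat_inj_of_beq h.1.2, M7.toMat_mul])

theorem commute_EB : Commute EB T := mat_inj (by
  have h := check_base'
  simp only [Bool.and_eq_true] at h
  rw [mat_mul, mat_mul, mat_T, mat_EB, ← M7.toMat_mul, toMat_inj_of_beq h.2, M7.toMat_mul])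

theorem commute_eEl (i : ℕ) : Commute (eEl i) T := by
  refine (Commute.list_prod_right _ _ fun x hx => ?_).symm
  obtain ⟨l, -, rfl⟩ := List.mem_map.1 hx
  cases l
  · exact commute_EA.symm
  · exact commute_EB.symm

/-- The element `t ^ ε * e`. -/
def cEl (c : Fin 2 × Fin 60) : J := T ^ (c.1 : ℕ) * eEl c.2

/-- The product of two elements of the centralizer, in the tables. -/
def cMul (c d : Fin 2 × Fin 60) : Fin 2 × Fin 60 :=
  (c.1 + d.1, ⟨eMul c.2 d.2 % 60, Nat.mod_lt _ (by norm_num)⟩)

theorem T_pow_add (x y : Fin 2) : T ^ ((x + y : Fin 2) : ℕ) = T ^ (x : ℕ) * T ^ (y : ℕ) := by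
  fin_cases x <;> fin_cases y <;> simp [T_sq]

theorem cEl_mul (c d : Fin 2 × Fin 60) : cEl (cMul c d) = cEl c * cEl d := by
  obtain ⟨h1, h2⟩ := eEl_mul c.2.2 d.2
  show T ^ ((c.1 + d.1 : Fin 2) : ℕ) * eEl (eMul c.2 d.2 % 60) = _
  rw [T_pow_add, Nat.mod_eq_of_lt h1, h2, cEl, cEl]
  simp only [mul_assoc]
  rw [← mul_assoc (eEl c.2), ((commute_eEl c.2).pow_right (d.1 : ℕ)).eq, mul_assoc]

theorem cEl_one : cEl (0, 0) = 1 := by simp [cEl, eEl_zero]

theorem cEl_eq_one {c : Fin 2 × Fin 60} (h : cEl c = 1) : c = (0, 0) := by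
  obtain ⟨e, i⟩ := c
  fin_cases e
  · simp [cEl] at h
    exact Prod.ext rfl (Fin.ext (eq_zero_of_eEl i.2 h))
  · exfalso
    simp [cEl] at h
    exact eEl_ne_T i.2 (by rw [← inv_eq_of_mul_eq_one_right h, inv_eq_of_mul_eq_one_right T_sq])

theorem check_inverse : ∀ c : Fin 2 × Fin 60, ∃ d, cMul d c = (0, 0) ∧
    ∀ e, cMul d e = (0, 0) → e = c := by decide +kernel

theorem cEl_injective : Function.Injective cEl := by
  intro c d h
  obtain ⟨c', hc', huniq⟩ := check_inverse c
  have h1 : cEl (cMul c' d) = 1 := by rw [cEl_mul, ← h, ← cEl_mul, hc', cEl_one]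
  exact (huniq d (cEl_eq_one h1)).symm

end CfsgLib.KnownA.JankoOne
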