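import Cfsg.Agent.Lib.KnownA.JankoOne.Cent

/-!
Relations between the distinguished generators of the first Janko group, perfectness.
-/

set_option autoImplicit false
set_option maxRecDepth 100000

namespace CfsgLib.KnownA.JankoOne

open CfsgLib.Recog.JankoOne
open scoped commutatorElement

/-- The action of `H` on the indices of the Sylow 2-subgroup. -/
def pF (i : Fin 8) : Fin 8 := ⟨pList.getD i.val 0 % 8, Nat.mod_lt _ (by norm_num)⟩

/-- The action of `N3` on the indices of the Sylow 2-subgroup. -/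
def nF (i : Fin 8) : Fin 8 := ⟨nList.getD i.val 0 % 8, Nat.mod_lt _ (by norm_num)⟩

/-- The index of the element of order 3. -/
def nC : Fin 2 × Fin 60 := (0, ⟨nIdx % 60, Nat.mod_lt _ (by norm_num)⟩)

/-- The element of order 3 normalizing the Sylow 2-subgroup. -/
def N3 : J := cEl nC

/-- The code of an element of the centralizer. -/
def cM (c : Fin 2 × Fin 60) : M7 := if c.1 = 0 then eM c.2 else mT.mul (eM c.2)

theorem mat_cEl (c : Fin 2 × Fin 60) : mat (cEl c) = (cM c).toMat := by
  obtain ⟨e, i⟩ := c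
  fin_cases e
  · simp [cEl, cM, mat_eEl i.2]
  · simp [cEl, cM, mat_mul, mat_T, mat_eEl i.2, M7.toMat_mul]

theorem check_pF : (∀ i : Fin 8, (mH.mul (cM (sIdx i))).beq ((cM (sIdx (pF i))).mul mH) = true) ∧
    (mH.powNat 7).beq oneM = true ∧
    ((cM nC).mul mH).beq ((mH.mul mH).mul (cM nC)) = true := by decide +kernel

theorem H_sEl (i : Fin 8) : H * sEl i = sEl (pF i) * H := mat_inj (by
  rw [mat_mul, mat_mul, sEl, sEl, mat_H, mat_cEl, mat_cEl, ← M7.toMat_mul,
    toMat_inj_of_beq (check_pF.1 i), M7.toMat_mul])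

theorem H_pow_seven : H ^ 7 = 1 := mat_inj (by
  rw [mat_pow, mat_H, ← toMat_powNat _ (by norm_num), toMat_inj_of_beq check_pF.2.1, oneM_toMat,
    mat_one])

theorem N3_H : N3 * H = H * H * N3 := mat_inj (by
  rw [mat_mul, mat_mul, mat_mul, N3, mat_cEl, mat_H, ← M7.toMat_mul,
    toMat_inj_of_beq check_pF.2.2, M7.toMat_mul, M7.toMat_mul])

theorem check_nF : ∀ i : Fin 8, cMul nC (sIdx i) = cMul (sIdx (nF i)) nC := by decide +kernel

theorem N3_sEl (i : Fin 8) : N3 * sEl i = sEl (nF i) * N3 := by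
  rw [N3, sEl, sEl, ← cEl_mul, ← cEl_mul, check_nF]

theorem H_conj (i : Fin 8) : H * sEl i * H⁻¹ = sEl (pF i) := by
  rw [H_sEl, mul_inv_cancel_right]

theorem N3_conj (i : Fin 8) : N3 * sEl i * N3⁻¹ = sEl (nF i) := by
  rw [N3_sEl, mul_inv_cancel_right]

theorem H_pow_conj (k : ℕ) (i : Fin 8) : H ^ k * sEl i * (H ^ k)⁻¹ = sEl (pF^[k] i) := by
  induction k with
  | zero => simp
  | succ k ih =>
    rw [Function.iterate_succ_apply', ← H_conj, ← ih, pow_succ', mul_inv_rev]
    simp [mul_assoc]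

theorem check_orbit : ∀ i : Fin 8, i = 0 ∨ ∃ k : Fin 7, pF^[k.val] 1 = i := by decide +kernel

theorem isConj_sEl {i : Fin 8} (hi : i ≠ 0) : IsConj T (sEl i) := by
  obtain ⟨k, hk⟩ := (check_orbit i).resolve_left hi
  refine isConj_iff.2 ⟨H ^ (k : ℕ), ?_⟩
  rw [← sEl_one, H_pow_conj, hk]

/-- A generator among `T`, the generators of `A₅` and `H`. -/
def gG (i : ℕ) : J := if i = 0 then T else if i = 1 then eEl 1 else if i = 2 then eEl 2 else H

/-- The code of such a generator. -/
def gM (i : ℕ) : M7 := if i = 0 then mT else if i = 1 then eM 1 else if i = 2 then eM 2 else mH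

theorem mat_gG (i : ℕ) : mat (gG i) = (gM i).toMat := by
  unfold gG gM
  split_ifs
  · exact mat_T
  · exact mat_eEl (by norm_num)
  · exact mat_eEl (by norm_num)
  · exact mat_H

theorem mat_gG_prod (w : List ℕ) :
    mat ((w.map gG).prod) = (w.foldr (fun i M => (gM i).mul M) oneM).toMat := by
  induction w with
  | nil => exact oneM_toMat.symm
  | cons l w ih => rw [List.map_cons, List.prod_cons, List.foldr_cons, mat_mul, M7.toMat_mul, ih, mat_gG]

theorem check_gen : (genX.foldr (fun i M => (gM i).mul M) oneM).beq (wordEval [1]) = true ∧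
    (genY.foldr (fun i M => (gM i).mul M) oneM).beq (wordEval [2]) = true := by decide +kernel

theorem genX_eq : (genX.map gG).prod = gL 1 := by
  have h : wEl [1] = gL 1 := by simp [wEl]
  rw [← h]
  exact mat_inj (by rw [mat_gG_prod, toMat_inj_of_beq check_gen.1, mat_wEl])

theorem genY_eq : (genY.map gG).prod = gL 2 := by
  have h : wEl [2] = gL 2 := by simp [wEl]
  rw [← h]
  exact mat_inj (by rw [mat_gG_prod, toMat_inj_of_beq check_gen.2, mat_wEl])

/-- A subgroup containing `T`, both generators of `A₅` and `H` is everything. -/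
theorem eq_top_of_mem (K : Subgroup J) (hT : T ∈ K) (ha : eEl 1 ∈ K) (hb : eEl 2 ∈ K) (hH : H ∈ K) :
    K = ⊤ := by
  have hg : ∀ i, gG i ∈ K := fun i => by
    unfold gG
    split_ifs
    exacts [hT, ha, hb, hH]
  have hX : gL 1 ∈ K := genX_eq ▸ list_prod_mem fun x hx => by
    obtain ⟨i, -, rfl⟩ := List.mem_map.1 hx
    exact hg i
  have hY : gL 2 ∈ K := genY_eq ▸ list_prod_mem fun x hx => by
    obtain ⟨i, -, rfl⟩ := List.mem_map.1 hx
    exact hg i
  refine (Subgroup.eq_top_iff' K).2 fun g => ?_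
  have key : ∀ (u : GL (Fin 7) (ZMod 11)) (hu : u ∈ Cfsg.Spor.J1), (⟨u, hu⟩ : J) ∈ K := by
    intro u hu
    refine Subgroup.closure_induction (p := fun u hu => (⟨u, hu⟩ : J) ∈ K) ?_ ?_ ?_ ?_ hu
    · intro u hu
      rcases hu with rfl | rfl
      · exact hX
      · exact hY
    · exact one_mem K
    · exact fun u v _ _ h1 h2 => mul_mem h1 h2
    · exact fun u _ h => inv_mem h
  exact key g.1 g.2

/-- Homomorphisms agreeing on the generators are equal. -/
theorem hom_ext {M : Type*} [Group M] {f g : J →* M} (hT : f T = g T) (ha : f (eEl 1) = g (eEl 1))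
    (hb : f (eEl 2) = g (eEl 2)) (hH : f H = g H) : f = g :=
  MonoidHom.ext fun x => show x ∈ f.eqLocus g by
    rw [eq_top_of_mem (f.eqLocus g) hT ha hb hH]
    exact Subgroup.mem_top x

theorem check_comm : (∃ q : Fin 8, xr (pF q) q = 1) ∧
    (∃ c d : Fin 2 × Fin 60, cMul c d = cMul (cMul (0, 1) d) c) ∧
    (∃ c d : Fin 2 × Fin 60, cMul c d = cMul (cMul (0, 2) d) c) := by decide +kernel

theorem eEl_mem_commutator (i : Fin 60)
    (h : ∃ c d : Fin 2 × Fin 60, cMul c d = cMul (cMul (0, i) d) c) : eEl i ∈ commutator J := by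
  obtain ⟨c, d, h⟩ := h
  have h' := congrArg cEl h
  rw [cEl_mul, cEl_mul, cEl_mul, show cEl (0, i) = eEl i by simp [cEl]] at h'
  rw [show eEl i = ⁅cEl c, cEl d⁆ by
    rw [commutatorElement_def, h']
    group, commutator_def]
  exact Subgroup.commutator_mem_commutator (Subgroup.mem_top _) (Subgroup.mem_top _)

theorem commutator_eq_top : commutator J = ⊤ := by
  obtain ⟨⟨q, hq⟩, ha, hb⟩ := check_comm
  refine eq_top_of_mem _ ?_ (eEl_mem_commutator 1 ha) (eEl_mem_commutator 2 hb) ?_
  · rw [show T = ⁅H, sEl q⁆ by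
      rw [commutatorElement_def, H_conj, inv_eq_of_mul_eq_one_right (sEl_sq q), sEl_mul, hq, sEl_one],
      commutator_def]
    exact Subgroup.commutator_mem_commutator (Subgroup.mem_top _) (Subgroup.mem_top _)
  · rw [show H = ⁅N3, H⁆ by
      rw [commutatorElement_def, N3_H, mul_inv_cancel_right, mul_inv_cancel_right], commutator_def]
    exact Subgroup.commutator_mem_commutator (Subgroup.mem_top _) (Subgroup.mem_top _)

end CfsgLib.KnownA.JankoOne
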